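import Mathlib
import Groth.Agent.Lib.Helper5.Curve2.H
import Groth.Agent.Lib.Lead.QC.TwistBack
import Groth.Agent.Lib.Lead.QC.TensorExact

set_option autoImplicit false
universe u
open CategoryTheory CategoryTheory.Limits AlgebraicGeometry TopologicalSpace Opposite

namespace Groth.Agent.H5.Split

open Groth.Agent.LD Groth.Agent.LD.QC

variable (k : Type u) [Field k] {X : Scheme.{u}} [X.Over (Spec (CommRingCat.of k))]

include k in
/-- lifting sections along an epimorphism whose kernel has no `H¹`. -/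
theorem exists_lift_of_H1 {S : ShortComplex X.Modules} (hS : S.ShortExact)
    (h1 : Subsingleton (Coh.HH X S.X₁ 1)) (τ : unitMod X ⟶ S.X₃) :
    ∃ t : unitMod X ⟶ S.X₂, t ≫ S.g = τ := by
  let x₃ : Coh.HH X S.X₃ 0 := (CL.HH0Equiv S.X₃).symm (sectionOfHom τ)
  obtain ⟨x₂, hx₂⟩ := CL.exact₃ hS k 0 x₃ (Subsingleton.elim _ _)
  refine ⟨homOfSection S.X₂ (CL.HH0Equiv S.X₂ x₂), ?_⟩
  rw [homOfSection_comp]
  have h2 := CL.HH0Equiv_map S.g x₂
  have h3 : CL.HH0Equiv S.X₃ (CL.HHmap k S.g 0 x₂) = S.g.app ⊤ (CL.HH0Equiv S.X₂ x₂) := h2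
  rw [← h3, hx₂]
  change homOfSection S.X₃ (CL.HH0Equiv S.X₃ ((CL.HH0Equiv S.X₃).symm (sectionOfHom τ))) = τ
  rw [AddEquiv.apply_symm_apply, homOfSection_sectionOfHom]

end Groth.Agent.H5.Split
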