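import Mathlib
import Groth.Agent.Lib.Helper5.Split.Split1
import Groth.Agent.Lib.Helper5.Glue.F

set_option autoImplicit false
universe u
open CategoryTheory CategoryTheory.Limits AlgebraicGeometry TopologicalSpace Opposite

namespace Groth.Agent.H5.Split

open Groth.Agent.LD Groth.Agent.LD.QC

variable {X : Scheme.{u}}

/-- a module with an invertible tensor-inverse is invertible. -/
theorem isInvertible_of_tensor_iso {L' L : X.Modules} (hL : PicF.IsInvertible L)
    (φ : CohB1.tensorMod L' L ≅ unitMod X) : PicF.IsInvertible L' := by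
  rw [isInvertible_iff_exists_isBasisOver]
  intro x
  obtain ⟨U, e, hxU, he⟩ := (isInvertible_iff_exists_isBasisOver L).mp hL x
  obtain ⟨e', he'⟩ := (bijective_tmul_of_isBasisOver L' L he U le_rfl).2
    (φ.inv.app U (1 : Γ(X, U)))
  rw [QC.res_self] at he'
  replace he' : SecTwist.tmul L' L U e' e = φ.inv.app U (1 : Γ(X, U)) := he'
  refine ⟨U, e', hxU, fun V hV => ?_⟩
  have hbij := bijective_tmul_of_isBasisOver L' L he V hV
  have hφ : Function.Bijective (φ.inv.app V) := app_bijective_of_isIso φ.inv V
  have hcomp : (fun t : Γ(L', V) => SecTwist.tmul L' L V t (L.presheaf.map (homOfLE hV).op e)) ∘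
      (fun a : Γ(X, V) => a • L'.presheaf.map (homOfLE hV).op e') = ⇑(φ.inv.app V) := by
    funext a
    change SecTwist.tmul L' L V (a • L'.presheaf.map (homOfLE hV).op e')
      (L.presheaf.map (homOfLE hV).op e) = φ.inv.app V a
    rw [tmul_smul_left, ← tmul_res L' L hV e' e, he', ← app_res φ.inv hV]
    have h1 : (unitMod X).presheaf.map (homOfLE hV).op (1 : Γ(X, U)) = (1 : Γ(X, V)) :=
      map_one (X.presheaf.map (homOfLE hV).op).hom
    rw [h1]
    have h2 := Scheme.Modules.Hom.app_smul φ.inv a (show Γ(unitMod X, V) from (1 : Γ(X, V)))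
    refine h2.symm.trans ?_
    congr 1
    exact mul_one a
  exact (Function.Bijective.of_comp_iff' hbij _).mp (hcomp ▸ hφ)

end Groth.Agent.H5.Split
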