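import Mathlib
import Groth.Agent.Lib.Helper5.Split.Split2
import Groth.Agent.Lib.Lead.QC.Ext
import Groth.Agent.Lib.Lead.QC.FreeData

set_option autoImplicit false
universe u
open CategoryTheory CategoryTheory.Limits AlgebraicGeometry TopologicalSpace Opposite

namespace Groth.Agent.H5.Split

open Groth.Agent.LD Groth.Agent.LD.QC

variable (k : Type u) [Field k] {X : Scheme.{u}} [X.Over (Spec (CommRingCat.of k))]

include k in
/-- **splitting criterion**: a short exact sequence `0 → M → E → L → 0` with `L` invertible and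
`H¹(M ⊗ L⁻¹) = 0` splits. -/
theorem isSplitEpi_of_H1 (S : ShortComplex X.Modules) (hS : S.ShortExact)
    (hq₁ : S.X₁.IsQuasicoherent) (hL : PicF.IsInvertible S.X₃)
    (L' : X.Modules) (hL' : PicF.IsInvertible L') (e : CohB1.tensorMod L' S.X₃ ≅ unitMod X)
    (h1 : Subsingleton (Coh.HH X (CohB1.tensorMod S.X₁ L') 1)) : IsSplitEpi S.g := by
  haveI : S.X₃.IsQuasicoherent := qc_of_isInvertible _ hL
  haveI : L'.IsQuasicoherent := qc_of_isInvertible _ hL'
  haveI : S.X₂.IsQuasicoherent := qc_of_shortExact S hS hq₁ inferInstance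
  have hT := shortExact_tensorMap_of_isInvertible hS L' hL'
  let e₂ : CohB1.tensorMod S.X₃ L' ≅ unitMod X := tensorCommAll S.X₃ L' ≪≫ e
  obtain ⟨t, ht⟩ := exists_lift_of_H1 k hT h1 e₂.inv
  let σ : CohB1.tensorMod S.X₃ L' ⟶ CohB1.tensorMod S.X₂ L' := e₂.hom ≫ t
  have hσ : σ ≫ KoszTw.tensorMap S.g (𝟙 L') = 𝟙 _ := by
    change (e₂.hom ≫ t) ≫ KoszTw.tensorMap S.g (𝟙 L') = 𝟙 _
    rw [Category.assoc]
    have : t ≫ KoszTw.tensorMap S.g (𝟙 L') = e₂.inv := ht
    rw [this, Iso.hom_inv_id]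
  obtain ⟨s, hs⟩ := exists_section_of_twist L' S.X₃ e hL' hL S.g σ hσ
  exact ⟨⟨s, hs⟩⟩

end Groth.Agent.H5.Split
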